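import Mathlib

/-!
# Endomorphisms of deformations of a module with scalar endomorphisms
-/

universe u v w w'

namespace Groth.Agent.SchurDef29

theorem exists_sum_of_mem {R : Type u} [CommRing R] {F : Type w'} [AddCommGroup F] [Module R F] (J : Ideal R)
    {z : F} (hz : z ∈ J • (⊤ : Submodule R F)) :
    ∃ (n : ℕ) (j : Fin n → R) (y : Fin n → F), (∀ i, j i ∈ J) ∧ z = ∑ i, j i • y i := by
  refine Submodule.smul_induction_on hz ?_ ?_
  · intro r hr y _
    exact ⟨1, fun _ => r, fun _ => y, fun _ => hr, by simp⟩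
  · intro a b ha hb
    obtain ⟨n, j, y, hj, rfl⟩ := ha
    obtain ⟨m, j', y', hj', rfl⟩ := hb
    exact ⟨n + m, Fin.append j j', Fin.append y y', fun i => Fin.addCases (fun i => by simpa using hj i) (fun i => by simpa using hj' i) i,
      by simp [Fin.sum_univ_add]⟩

theorem mem_colon_smul {R : Type u} [CommRing R] {F : Type w'} [AddCommGroup F] [Module R F] [Module.Flat R F]
    (J L : Ideal R) (s : R) (hL : ∀ a, s * a ∈ J → a ∈ L) {x : F} (hx : s • x ∈ J • (⊤ : Submodule R F)) :
    x ∈ L • (⊤ : Submodule R F) := by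
  classical
  obtain ⟨n, j, y, hj, hxy⟩ := exists_sum_of_mem J hx
  have h0 : ∑ i, (Fin.cons s (fun i => -j i) : Fin (n + 1) → R) i • (Fin.cons x y : Fin (n + 1) → F) i = 0 := by
    rw [Fin.sum_univ_succ]
    simp [hxy]
  obtain ⟨k, a, z, hz, ha⟩ := Module.Flat.isTrivialRelation_of_sum_smul_eq_zero h0
  rw [show x = ∑ l, a 0 l • z l by simpa using hz 0]
  refine Submodule.sum_mem _ fun l _ => Submodule.smul_mem_smul (hL _ ?_) Submodule.mem_top
  have h := ha l
  rw [Fin.sum_univ_succ] at h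
  simp only [Fin.cons_zero, Fin.cons_succ, neg_mul, Finset.sum_neg_distrib] at h
  rw [show s * a 0 l = ∑ i : Fin n, j i * a i.succ l from add_neg_eq_zero.1 h]
  exact Ideal.sum_mem _ fun i _ => J.mul_mem_right _ (hj i)

variable {K : Type u} [Field K] {D : Type v} [Ring D] {E : Type w} [AddCommGroup E] [Module K E] [Module D E]
  {R : Type u} [CommRing R] [IsLocalRing R] [IsArtinianRing R] [Algebra K R]
  {F : Type w'} [AddCommGroup F] [Module R F] [Module D F] [SMulCommClass R D F] [Module.Flat R F]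

theorem exists_scalar (res : R →ₐ[K] K) (hE : ∀ ψ : E →ₗ[D] E, ∃ c : K, ∀ y : E, ψ y = c • y)
    (θ : F →ₗ[D] E) (hθ : ∀ (r : R) (x : F), θ (r • x) = res r • θ x) (hsurj : Function.Surjective θ)
    (hker : ∀ x : F, θ x = 0 ↔ x ∈ IsLocalRing.maximalIdeal R • (⊤ : Submodule R F)) :
    ∀ (I : Ideal R) (φ : F →ₗ[R] F), (∀ (d : D) (x : F), φ (d • x) = d • φ x) →
      (∀ x, φ x ∈ I • (⊤ : Submodule R F)) → ∃ r ∈ I, ∀ x, φ x = r • x := by
  classical
  intro I
  induction I using IsArtinian.induction with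
  | hgt I ih =>
    intro φ hD hI
    by_cases hI0 : I = ⊥
    · refine ⟨0, I.zero_mem, fun x => ?_⟩
      have h := hI x
      rw [hI0, Submodule.bot_smul, Submodule.mem_bot] at h
      rw [h, zero_smul]
    obtain ⟨I', hlt, hmax⟩ : ∃ I' < I, ∀ J, I' < J → ¬ J < I := by
      obtain ⟨I', hI', hmax⟩ := (wellFounded_gt (α := Ideal R)).has_min {J | J < I} ⟨⊥, bot_lt_iff_ne_bot.2 hI0⟩
      exact ⟨I', hI', fun J hJ hJI => hmax J hJI hJ⟩
    obtain ⟨s, hsI, hs⟩ := SetLike.exists_of_lt hlt
    have hsup : I' ⊔ Ideal.span {s} = I := by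
      by_contra hne
      exact hmax _ (left_lt_sup.2 fun h => hs (h (Ideal.mem_span_singleton_self s)))
        (lt_of_le_of_ne (sup_le hlt.le ((Ideal.span_singleton_le_iff_mem I).2 hsI)) hne)
    have hmI : IsLocalRing.maximalIdeal R * I ≤ I' := by
      by_contra hnle
      have h1 : I' < I' ⊔ IsLocalRing.maximalIdeal R * I := left_lt_sup.2 hnle
      have h2 : I' ⊔ IsLocalRing.maximalIdeal R * I = I := by
        by_contra hne
        exact hmax _ h1 (lt_of_le_of_ne (sup_le hlt.le Ideal.mul_le_right) hne)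
      have h3 : I ≤ I' ⊔ IsLocalRing.maximalIdeal R • I := by rw [smul_eq_mul, h2]
      exact hlt.not_ge (Submodule.le_of_le_smul_of_le_jacobson_bot (IsNoetherian.noetherian I)
        (by rw [IsLocalRing.jacobson_eq_maximalIdeal _ bot_ne_top]) h3)
    have hcol : ∀ a, s * a ∈ I' → a ∈ IsLocalRing.maximalIdeal R := by
      intro a ha
      by_contra hc
      obtain ⟨u, rfl⟩ : IsUnit a := by rwa [IsLocalRing.mem_maximalIdeal, mem_nonunits_iff, not_not] at hc
      exact hs (by simpa [mul_assoc] using Ideal.mul_mem_right (↑u⁻¹ : R) I' ha)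
    have hdec : ∀ z ∈ I • (⊤ : Submodule R F), ∃ w, z - s • w ∈ I' • (⊤ : Submodule R F) := by
      intro z hz
      rw [← hsup, Submodule.sup_smul, Submodule.mem_sup] at hz
      obtain ⟨a, ha, b, hb, rfl⟩ := hz
      rw [Submodule.ideal_span_singleton_smul, Submodule.mem_smul_pointwise_iff_exists] at hb
      obtain ⟨w, -, rfl⟩ := hb
      exact ⟨w, by simpa using ha⟩
    have huniq : ∀ z w w', z - s • w ∈ I' • (⊤ : Submodule R F) → z - s • w' ∈ I' • (⊤ : Submodule R F) → θ w = θ w' := by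
      intro z w w' h h'
      rw [← sub_eq_zero, ← map_sub, hker]
      refine mem_colon_smul I' _ s hcol ?_
      rw [smul_sub, show s • w - s • w' = (z - s • w') - (z - s • w) by abel]
      exact sub_mem h' h
    choose g hg using fun x => hdec (φ x) (hI x)
    have hzero : ∀ x, θ x = 0 → θ (g x) = 0 := by
      intro x hx
      obtain ⟨n, j, y, hj, rfl⟩ := exists_sum_of_mem _ ((hker x).1 hx)
      rw [huniq _ (g _) 0 (hg _) ?_, map_zero]
      rw [smul_zero, sub_zero, map_sum]
      refine Submodule.sum_mem _ fun i _ => ?_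
      rw [map_smul]
      refine Submodule.smul_mono_left hmI ?_
      rw [← smul_eq_mul, Submodule.smul_assoc]
      exact Submodule.smul_mem_smul (hj i) (hI _)
    let sec := Function.surjInv hsurj
    have hsec : ∀ y, θ (sec y) = y := Function.surjInv_eq hsurj
    have hadd : ∀ x x', θ (g (x + x')) = θ (g x) + θ (g x') := fun x x' => by
      rw [← map_add]
      refine huniq (φ (x + x')) _ _ (hg _) ?_
      rw [map_add, smul_add, add_sub_add_comm]
      exact add_mem (hg x) (hg x')
    have hwell : ∀ x x', θ x = θ x' → θ (g x) = θ (g x') := fun x x' h => by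
      have h1 := hadd (x - x') x'
      rw [sub_add_cancel, hzero (x - x') (by rw [map_sub, h, sub_self]), zero_add] at h1
      exact h1
    have hd : ∀ (d : D) x, θ (g (d • x)) = d • θ (g x) := fun d x => by
      rw [← map_smul]
      refine huniq (φ (d • x)) _ _ (hg _) ?_
      rw [hD, smul_comm s d, ← smul_sub]
      obtain ⟨n, j, y, hj, e⟩ := exists_sum_of_mem _ (hg x)
      rw [e, Finset.smul_sum]
      exact Submodule.sum_mem _ fun i _ => by
        rw [← smul_comm]
        exact Submodule.smul_mem_smul (hj i) Submodule.mem_top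
    let ψ : E →ₗ[D] E :=
      { toFun := fun y => θ (g (sec y))
        map_add' := fun y y' => by
          rw [← hadd]
          exact hwell _ _ (by rw [map_add, hsec, hsec, hsec])
        map_smul' := fun d y => by
          rw [RingHom.id_apply, ← hd]
          exact hwell _ _ (by rw [map_smul, hsec, hsec]) }
    obtain ⟨c, hc⟩ := hE ψ
    have hkey : ∀ x, φ x - (algebraMap K R c * s) • x ∈ I' • (⊤ : Submodule R F) := by
      intro x
      have h : θ (g x) = θ (algebraMap K R c • x) := by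
        rw [hθ, AlgHom.commutes, show (algebraMap K K c : K) = c from rfl, ← hc]
        exact hwell _ _ (by rw [hsec])
      have h2 : s • (g x - algebraMap K R c • x) ∈ I' • (⊤ : Submodule R F) := by
        obtain ⟨n, j, y, hj, e⟩ := exists_sum_of_mem _ ((hker _).1 (show θ (g x - algebraMap K R c • x) = 0 by rw [map_sub, h, sub_self]))
        rw [e, Finset.smul_sum]
        refine Submodule.sum_mem _ fun i _ => ?_
        rw [smul_smul]
        exact Submodule.smul_mem_smul (hmI (mul_comm s (j i) ▸ Ideal.mul_mem_mul (hj i) hsI)) Submodule.mem_top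
      have h3 := add_mem (hg x) h2
      rwa [smul_sub, smul_smul, mul_comm s, sub_add_sub_cancel] at h3
    obtain ⟨r, hr, hrx⟩ := ih I' hlt (φ - (algebraMap K R c * s) • LinearMap.id)
      (fun d x => by
        simp only [LinearMap.sub_apply, LinearMap.smul_apply, LinearMap.id_apply, hD, smul_sub]
        rw [smul_comm])
      hkey
    refine ⟨r + algebraMap K R c * s, I.add_mem (hlt.le hr) (Ideal.mul_mem_left I _ hsI), fun x => ?_⟩
    rw [add_smul, ← hrx x]
    simp

omit [Module K E] [Algebra K R] [IsArtinianRing R] [SMulCommClass R D F] in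
theorem eq_zero_of_smul (θ : F →ₗ[D] E) (hsurj : Function.Surjective θ) [Nontrivial E]
    (hker : ∀ x : F, θ x = 0 ↔ x ∈ IsLocalRing.maximalIdeal R • (⊤ : Submodule R F))
    {r : R} (h : ∀ x : F, r • x = 0) : r = 0 := by
  by_contra hr
  obtain ⟨e, he⟩ := exists_ne (0 : E)
  obtain ⟨x, rfl⟩ := hsurj e
  refine he ((hker x).2 (mem_colon_smul ⊥ _ r (fun a ha => ?_) (by rw [h x]; exact zero_mem _)))
  by_contra hc
  obtain ⟨u, rfl⟩ : IsUnit a := by rwa [IsLocalRing.mem_maximalIdeal, mem_nonunits_iff, not_not] at hc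
  exact hr (by simpa using ha)

theorem existsUnique_scalar [Nontrivial E] (res : R →ₐ[K] K) (hE : ∀ ψ : E →ₗ[D] E, ∃ c : K, ∀ y : E, ψ y = c • y)
    (θ : F →ₗ[D] E) (hθ : ∀ (r : R) (x : F), θ (r • x) = res r • θ x) (hsurj : Function.Surjective θ)
    (hker : ∀ x : F, θ x = 0 ↔ x ∈ IsLocalRing.maximalIdeal R • (⊤ : Submodule R F))
    (φ : F →ₗ[R] F) (hφ : ∀ (d : D) (x : F), φ (d • x) = d • φ x) : ∃! r : R, ∀ x : F, φ x = r • x := by
  obtain ⟨r, -, hr⟩ := exists_scalar res hE θ hθ hsurj hker ⊤ φ hφ (fun x => by rw [Submodule.top_smul]; trivial)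
  refine ⟨r, hr, fun r' hr' => sub_eq_zero.1 (eq_zero_of_smul θ hsurj hker fun x => ?_)⟩
  rw [sub_smul, ← hr', hr, sub_self]

theorem existsUnique_aut [Nontrivial E] (res : R →ₐ[K] K) (hE : ∀ ψ : E →ₗ[D] E, ∃ c : K, ∀ y : E, ψ y = c • y)
    (θ : F →ₗ[D] E) (hθ : ∀ (r : R) (x : F), θ (r • x) = res r • θ x) (hsurj : Function.Surjective θ)
    (hker : ∀ x : F, θ x = 0 ↔ x ∈ IsLocalRing.maximalIdeal R • (⊤ : Submodule R F))
    (α : F →ₗ[R] F) (hαD : ∀ (d : D) (x : F), α (d • x) = d • α x) (hαθ : ∀ x : F, θ (α x) = θ x) :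
    ∃! r : R, res r = 1 ∧ ∀ x : F, α x = r • x := by
  obtain ⟨r, hr, huniq⟩ := existsUnique_scalar res hE θ hθ hsurj hker α hαD
  refine ⟨r, ⟨?_, hr⟩, fun r' h => huniq r' h.2⟩
  obtain ⟨e, he⟩ := exists_ne (0 : E)
  obtain ⟨x, rfl⟩ := hsurj e
  have h1 := hαθ x
  rw [hr, hθ] at h1
  exact smul_left_injective K he (h1.trans (one_smul K _).symm)

end Groth.Agent.SchurDef29
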